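import Cfsg.Agent.S4500
import Cfsg.Agent.S3331
import Cfsg.Agent.Lib.SmallCof.Basic

/-!
# Nonabelian simple groups of order `3 p^a q^b`, `a ≤ 2`
-/

set_option autoImplicit false
set_option linter.unusedSectionVars false
set_option linter.style.haveILetI false
set_option linter.unusedVariables false

namespace Cfsg.Agent.Lib.SmallCof

open Cfsg Module Subgroup
open Cfsg.Agent.Lib.Char.Degree
open Cfsg.Agent.Lib.CharDeg.PrimeDeg

universe u

variable {G : Type u} [Group G] [Finite G] [IsSimpleGroup G]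

theorem not_isSolvable (hna : ∃ x y : G, x * y ≠ y * x) : ¬ Group.IsSolvable G := by
  intro hs
  obtain ⟨a, b, hab⟩ := hna
  exact hab ((IsSimpleGroup.comm_iff_isSolvable).mpr hs a b)

theorem nontrivial_of_hna (hna : ∃ x y : G, x * y ≠ y * x) : Nontrivial G := by
  obtain ⟨a, b, hab⟩ := hna
  by_contra h
  rw [not_nontrivial_iff_subsingleton] at h
  exact hab (Subsingleton.elim _ _)

theorem card_alt_five : Nat.card (alternatingGroup (Fin 5)) = 60 := by
  have h := two_mul_nat_card_alternatingGroup (α := Fin 5)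
  have h2 : Nat.card (Equiv.Perm (Fin 5)) = 120 := by
    rw [Nat.card_eq_fintype_card, Fintype.card_perm]
    rfl
  omega

theorem part_two (hna : ∃ x y : G, x * y ≠ y * x) (p q a b : ℕ) (hp : p.Prime) (hq : q.Prime)
    (hpq : p ≠ q) (ha : a ≤ 2) (hcard : Nat.card G = 3 * p ^ a * q ^ b) :
    Nonempty (G ≃* alternatingGroup (Fin 5)) ∨
      Nonempty (G ≃* Matrix.ProjectiveSpecialLinearGroup (Fin 2) (ZMod 7)) := by
  classical
  have hns := not_isSolvable hna
  haveI := nontrivial_of_hna hna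
  have hp3 : p ≠ 3 := by
    rintro rfl
    exact hns (Cfsg.Agent.Lib.Char.Burnside.isSolvable_of_card_eq 3 q (a + 1) b Nat.prime_three hq
      (by rw [hcard]; ring))
  have hq3 : q ≠ 3 := by
    rintro rfl
    exact hns (Cfsg.Agent.Lib.Char.Burnside.isSolvable_of_card_eq 3 p (b + 1) a Nat.prime_three hp
      (by rw [hcard]; ring))
  have h9 : ¬ 3 ^ 2 ∣ Nat.card G := by
    rw [hcard]
    intro h
    have h1 : 3 ∣ p ^ a * q ^ b := by
      have : 3 * 3 ∣ 3 * (p ^ a * q ^ b) := by
        rw [show 3 * (p ^ a * q ^ b) = 3 * p ^ a * q ^ b by ring]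
        simpa [pow_two] using h
      exact Nat.dvd_of_mul_dvd_mul_left (by norm_num) this
    rcases (Nat.Prime.dvd_mul Nat.prime_three).mp h1 with h2 | h2
    · exact hp3 ((Nat.prime_dvd_prime_iff_eq Nat.prime_three hp).mp
        (Nat.prime_three.dvd_of_dvd_pow h2)).symm
    · exact hq3 ((Nat.prime_dvd_prime_iff_eq Nat.prime_three hq).mp
        (Nat.prime_three.dvd_of_dvd_pow h2)).symm
  obtain ⟨χ, hχ, k, hk⟩ := Cfsg.Agent.S4500.aux p 3 q a 1 b hp Nat.prime_three hq hp3 hpq ha
    (by rw [hcard]; ring)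
  have hχ' : χ ≠ one' G := fun h => hχ (by rw [h]; rfl)
  have hk1 : k ≠ 0 := by
    rintro rfl
    exact deg_ne_one hna χ hχ' (by simpa using hk)
  have hk2 : k < 2 := by
    by_contra hlt
    apply h9
    have h1 : 3 ^ k ∣ Nat.card G := hk ▸ charDegree_dvd_card χ.2
    exact (pow_dvd_pow 3 (by omega)).trans h1
  have hdeg : charDegree (χ : G → ℂ) = 3 := by
    have : k = 1 := by omega
    rw [hk, this, pow_one]
  obtain ⟨x, hx⟩ := exists_prime_orderOf_dvd_card' (G := G) 3 (by
    rw [hcard]; exact Dvd.dvd.mul_right (Dvd.intro _ rfl) _)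
  haveI : Fact (Nat.Prime 3) := ⟨Nat.prime_three⟩
  have hC := centralizer_zpowers_eq hna χ hχ' Nat.prime_three hdeg h9 hx
  have hX : Nat.card (zpowers x) = 3 := by rw [Nat.card_zpowers, hx]
  have hs3 : Nat.card G = 3 ∨ Nat.card G = 6 → False := by
    rintro (h | h)
    · exact hns (Cfsg.Agent.Lib.Char.Burnside.isSolvable_of_card_eq 2 3 0 1 Nat.prime_two
        Nat.prime_three (by rw [h]; norm_num))
    · exact hns (Cfsg.Agent.Lib.Char.Burnside.isSolvable_of_card_eq 2 3 1 1 Nat.prime_two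
        Nat.prime_three (by rw [h]; norm_num))
  rcases Cfsg.Agent.S3331.result (zpowers x) hX hC with
    ⟨N, hN, -, -, h⟩ | ⟨N, hN, -, -, ⟨e⟩⟩ | h
  · exfalso
    have hi : N.index = 3 ∨ N.index = 6 := by
      rcases h with h | ⟨⟨e⟩⟩
      · exact Or.inl h
      · right
        show Nat.card (G ⧸ N) = 6
        rw [Nat.card_congr e.toEquiv, Nat.card_eq_fintype_card, Fintype.card_perm]
        rfl
    rcases IsSimpleGroup.eq_bot_or_eq_top_of_normal N hN with rfl | rfl
    · rw [Subgroup.index_bot] at hi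
      exact hs3 hi
    · rw [Subgroup.index_top] at hi
      omega
  · left
    rcases IsSimpleGroup.eq_bot_or_eq_top_of_normal N hN with rfl | rfl
    · exact ⟨(QuotientGroup.quotientBot).symm.trans e⟩
    · exfalso
      have h1 : Nat.card (G ⧸ (⊤ : Subgroup G)) = 60 := by
        rw [Nat.card_congr e.toEquiv, card_alt_five]
      have h2 : (⊤ : Subgroup G).index = 60 := h1
      rw [Subgroup.index_top] at h2
      omega
  · right
    exact h

end Cfsg.Agent.Lib.SmallCof
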