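import Cfsg.Agent.S4500
import Cfsg.Agent.S0494
import Cfsg.Agent.Lib.SmallCof.Basic
import Cfsg.Agent.Lib.SmallCof.Arith
import Cfsg.Agent.Lib.SmallCof.PartTwo
import Cfsg.Agent.Lib.V4Block.Formula
import Cfsg.Agent.Lib.V4Block.OfNoCompl
import Cfsg.Agent.Lib.BlockH.Basic

/-!
# Nonabelian simple groups of order `4 p^a q^b`, `a ≤ 2`
-/

set_option autoImplicit false
set_option linter.unusedSectionVars false
set_option linter.style.haveILetI false
set_option linter.unusedVariables false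

namespace Cfsg.Agent.Lib.SmallCof

open Cfsg Module Subgroup Finset
open Cfsg.Agent.Lib.Char.Basic Cfsg.Agent.Lib.Char.Ortho Cfsg.Agent.Lib.Char.Complete
open Cfsg.Agent.Lib.Char.Degree Cfsg.Agent.Lib.Char.Clifford
open Cfsg.Agent.Lib.CharDeg.PrimeDeg
open Cfsg.Agent.Lib.V4Block Cfsg.Agent.Lib.Blocks.Third Cfsg.Agent.Lib.ZStar.Section
open scoped ComplexConjugate Pointwise

universe u

section Burnside

variable {G : Type u} [Group G] [Finite G]

/-- `N(P)` induces an automorphism of order three on the four-group `P`. -/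
theorem three_dvd_card {g₀ : ℕ} (hg₀ : Odd g₀) (hcard : Nat.card G = 4 * g₀)
    (hnc : ¬ ∃ N : Subgroup G, N.Normal ∧ Nat.card N = g₀) : 3 ∣ Nat.card G := by
  classical
  letI := Fintype.ofFinite G
  haveI : Fact (Nat.Prime 2) := ⟨Nat.prime_two⟩
  obtain ⟨P⟩ : Nonempty (Sylow 2 G) := inferInstance
  have hP := card_sylow_of_card_eq hg₀ hcard P
  have hPcomm := IsPGroup.isMulCommutative_of_card_eq_prime_sq (p := 2) (G := P)
    (by rw [hP]; norm_num)
  have hcomm : ∀ a ∈ (P : Subgroup G), ∀ b ∈ (P : Subgroup G), a * b = b * a := by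
    intro a ha b hb
    have := hPcomm.is_comm.comm (⟨a, ha⟩ : P) ⟨b, hb⟩
    exact congrArg Subtype.val this
  have hN : ¬ normalizer ((P : Subgroup G) : Set G) ≤ centralizer ((P : Subgroup G) : Set G) := by
    intro hN
    have hc := MonoidHom.ker_transferSylow_isComplement' P hN
    apply hnc
    refine ⟨(MonoidHom.transferSylow P hN).ker, inferInstance, ?_⟩
    have h1 := hc.card_mul_card
    have hP' : Nat.card (P : Subgroup G) = 4 := hP
    rw [hP', hcard] at h1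
    omega
  obtain ⟨x, hxN, hxC⟩ := SetLike.not_le_iff_exists.mp hN
  obtain ⟨y, q, k, hq, hk, hy, hyC⟩ := Cfsg.Agent.S0073.exists_prime_pow_power _ x hxC
  haveI : Fact q.Prime := ⟨hq⟩
  have hyN : y ∈ normalizer ((P : Subgroup G) : Set G) := (zpowers_le.2 hxN) hy
  have hq2 : q ≠ 2 := by
    rintro rfl
    have hyP : y ∈ (P : Subgroup G) :=
      Cfsg.Agent.Lib.Blocks.Third.mem_sylow_of_mem_normalizer P ⟨k, hk⟩ hyN
    apply hyC
    rw [Subgroup.mem_centralizer_iff]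
    intro s hs
    exact hcomm s hs y hyP
  have h1 := Cfsg.Agent.Lib.Transfer.SmallSylow.card_modEq_card_inf_centralizer
    (P : Subgroup G) hyN hk
  rw [show Nat.card (P : Subgroup G) = 4 from hP] at h1
  set D : Subgroup G := (P : Subgroup G) ⊓ centralizer ({y} : Set G) with hD
  have hdvd : Nat.card D ∣ 4 := by
    rw [← show Nat.card (P : Subgroup G) = 4 from hP]
    exact Subgroup.card_dvd_of_le inf_le_left
  have hd4 : Nat.card D ≠ 4 := by
    intro hd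
    apply hyC
    have hle : (P : Subgroup G) ≤ D := by
      apply Subgroup.eq_of_le_of_card_ge inf_le_left ?_ |>.symm.le
      rw [hd, show Nat.card (P : Subgroup G) = 4 from hP]
    rw [Subgroup.mem_centralizer_iff]
    intro s hs
    have := (Subgroup.mem_inf.mp (hle hs)).2
    rw [Subgroup.mem_centralizer_singleton_iff] at this
    exact this
  have hd2 : Nat.card D ≠ 2 := by
    intro hd
    rw [hd] at h1
    have h2 : q ∣ 4 - 2 := (Nat.modEq_iff_dvd' (by norm_num)).mp h1.symm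
    have h3 : q ∣ 2 := h2
    exact hq2 ((Nat.prime_dvd_prime_iff_eq hq Nat.prime_two).mp h3)
  have hd1 : Nat.card D = 1 := by
    have h4 : Nat.card D ≤ 4 := Nat.le_of_dvd (by norm_num) hdvd
    have h0 : 0 < Nat.card D := Nat.card_pos
    interval_cases hh : Nat.card D
    · rfl
    · exact absurd rfl hd2
    · norm_num at hdvd
    · exact absurd rfl hd4
  rw [hd1] at h1
  have h2 : q ∣ 4 - 1 := (Nat.modEq_iff_dvd' (by norm_num)).mp h1.symm
  have h3 : q = 3 := (Nat.prime_dvd_prime_iff_eq hq Nat.prime_three).mp h2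
  subst h3
  have hk0 : k ≠ 0 := by
    rintro rfl
    rw [pow_zero, orderOf_eq_one_iff] at hk
    apply hyC
    rw [hk]
    exact one_mem _
  have : 3 ∣ orderOf y := by
    rw [hk]
    exact dvd_pow_self 3 hk0
  exact this.trans (orderOf_dvd_natCard y)

end Burnside

section Main

variable {G : Type u} [Group G] [Fintype G] [Fintype (IrrCharacter G)]
variable {M : Ideal AlgInt}

/-- Restricting to a Klein four Sylow subgroup. -/
theorem exists_four_value (hC : Ctx G) (χ : IrrCharacter G) {J : G} (hJ : orderOf J = 2) :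
    ∃ m : ℕ, (χ : G → ℂ) 1 + 3 * (χ : G → ℂ) J = 4 * m := by
  classical
  obtain ⟨P, hJP⟩ := exists_sylow_mem hJ
  letI : Fintype (P : Subgroup G) := Fintype.ofFinite _
  obtain ⟨m, hm⟩ := Cfsg.Agent.Lib.ZStar.EC.exists_sum_eq χ (P : Subgroup G)
  have hcard : Nat.card (P : Subgroup G) = 4 := hC.card_sylow P
  refine ⟨m, ?_⟩
  rw [hcard] at hm
  rw [← Finset.add_sum_erase univ _ (Finset.mem_univ (1 : (P : Subgroup G)))] at hm
  have hsum : ∑ a ∈ univ.erase (1 : (P : Subgroup G)), (χ : G → ℂ) (a : G) = 3 * (χ : G → ℂ) J := by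
    have hval : ∀ a ∈ univ.erase (1 : (P : Subgroup G)), (χ : G → ℂ) (a : G) = (χ : G → ℂ) J := by
      intro a ha
      have ha1 : (a : G) ≠ 1 := fun h => (Finset.mem_erase.mp ha).1 (Subtype.ext h)
      have ho : orderOf (a : G) = 2 :=
        orderOf_two_of_mul_self (hC.mul_self_of_mem P a.2) ha1
      obtain ⟨c, hc⟩ := isConj_iff.mp (hC.one_class _ _ hJ ho)
      rw [← hc]
      exact isClassFunction_of_isIrrCharacter χ.2 J c
    rw [Finset.sum_congr rfl hval, Finset.sum_const, Finset.card_erase_of_mem (Finset.mem_univ _),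
      Finset.card_univ, ← Nat.card_eq_fintype_card, hcard]
    simp
  rw [hsum] at hm
  exact hm

/-- The degree of a non-principal character of 2-power degree must be four. -/
theorem degree_eq_four [IsSimpleGroup G] (hna : ∃ x y : G, x * y ≠ y * x) (hC : Ctx G)
    (h8 : ¬ 2 ^ 3 ∣ Nat.card G) {J : G} (hJ : orderOf J = 2) (χ : IrrCharacter G)
    (hχ : χ ≠ one' G) {k : ℕ} (hk : charDegree (χ : G → ℂ) = 2 ^ k) :
    charDegree (χ : G → ℂ) = 4 := by
  have hχc := isCharacter_of_isIrrCharacter χ.2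
  have hk0 : k ≠ 0 := by
    rintro rfl
    exact deg_ne_one hna χ hχ (by simpa using hk)
  have hk3 : k < 3 := by
    by_contra hlt
    apply h8
    have h1 : 2 ^ k ∣ Nat.card G := hk ▸ charDegree_dvd_card χ.2
    exact (pow_dvd_pow 2 (by omega)).trans h1
  have hk1 : k ≠ 1 := by
    rintro rfl
    exfalso
    rw [pow_one] at hk
    obtain ⟨c, hc⟩ := Cfsg.Agent.Lib.ZStar.EC.exists_int_value χ hJ
    obtain ⟨m, hm⟩ := exists_four_value hC χ hJ
    have hd : (χ : G → ℂ) 1 = 2 := by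
      rw [← charDegree_natCast hχc, hk]
      norm_num
    rw [hd, hc] at hm
    have hm' : 2 + 3 * c = 4 * (m : ℤ) := by exact_mod_cast hm
    have hle := norm_le_charDegree hχc J
    rw [hk, hc] at hle
    have hle' : |c| ≤ 2 := by
      have h1 : ‖(c : ℂ)‖ = |(c : ℝ)| := by
        rw [Complex.norm_intCast]
      rw [h1] at hle
      have h2 : |(c : ℝ)| ≤ ((2 : ℤ) : ℝ) := by exact_mod_cast hle
      have h3 : |(c : ℝ)| = ((|c| : ℤ) : ℝ) := by simp
      rw [h3] at h2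
      exact_mod_cast h2
    rw [abs_le] at hle'
    have hc2 : c = 2 := by omega
    subst hc2
    have h4 : ‖(χ : G → ℂ) J‖ = charDegree (χ : G → ℂ) := by
      rw [hc, hk]
      simp
    exact ne_one_of_orderOf_two hJ (eq_one_of_norm_eq hna χ hχ h4)
  have : k = 2 := by omega
  rw [hk, this]
  norm_num

/-- The principal block has the shape `{1, χ₁, χ₂, χ₃}`. -/
theorem exists_isFour (hC : Ctx G) (hM : IsPModular 2 M) {J : G} (hJ : orderOf J = 2) :
    ∃ χ₁ χ₂ χ₃ : IrrCharacter G, IsFour M χ₁ χ₂ χ₃ := by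
  classical
  haveI := hM.2.1.isPrime
  have hcard : Fintype.card (Idx M G) = 4 := hC.card_block hM hJ
  set B : Finset (IrrCharacter G) := univ.filter fun χ => χ ∈ principalBlock M G with hB
  have hBc : B.card = 4 := by
    rw [← hcard, Fintype.card_subtype]
  have hone : oneI G ∈ principalBlock M G :=
    Cfsg.Agent.Lib.Blocks.Third.principalBlock_eq_blockOf (G := G) M ▸
      Cfsg.Agent.Lib.Blocks.Central.mem_blockOf_self (oneI G)
  have honeB : oneI G ∈ B := by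
    rw [hB, Finset.mem_filter]
    exact ⟨Finset.mem_univ _, hone⟩
  have h3 : (B.erase (oneI G)).card = 3 := by
    rw [Finset.card_erase_of_mem honeB, hBc]
  obtain ⟨χ₁, χ₂, χ₃, h12, h13, h23, hS⟩ := Finset.card_eq_three.mp h3
  have hmem : ∀ χ : IrrCharacter G, χ ∈ B.erase (oneI G) ↔ χ = χ₁ ∨ χ = χ₂ ∨ χ = χ₃ := by
    intro χ
    rw [hS]
    simp
  have hval : ∀ χ : IrrCharacter G, (χ : G → ℂ) = (fun _ => 1) ↔ χ = oneI G := by
    intro χ
    exact ⟨fun h => Subtype.ext h, fun h => by rw [h]; rfl⟩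
  have hne : ∀ χ : IrrCharacter G, (χ = χ₁ ∨ χ = χ₂ ∨ χ = χ₃) → (χ : G → ℂ) ≠ (fun _ => 1) := by
    intro χ h e
    have := (hmem χ).mpr h
    exact (Finset.mem_erase.mp this).1 ((hval χ).mp e)
  refine ⟨χ₁, χ₂, χ₃, ?_, hne χ₁ (Or.inl rfl), hne χ₂ (Or.inr (Or.inl rfl)),
    hne χ₃ (Or.inr (Or.inr rfl)), h12, h13, h23⟩
  ext χ
  simp only [Set.mem_ofPred_eq]
  constructor
  · intro h
    by_cases h1 : χ = oneI G
    · left
      exact (hval χ).mpr h1
    · right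
      rw [← hmem, Finset.mem_erase, hB, Finset.mem_filter]
      exact ⟨h1, Finset.mem_univ _, h⟩
  · rintro (h | h)
    · rw [(hval χ).mp h]
      exact hone
    · have := (hmem χ).mpr h
      have h2 := (Finset.mem_erase.mp this).2
      rw [hB, Finset.mem_filter] at h2
      exact h2.2

/-- The values at an involution are signs. -/
theorem exists_signs (hC : Ctx G) (hM : IsPModular 2 M) {J : G} (hJ : orderOf J = 2)
    {χ₁ χ₂ χ₃ : IrrCharacter G} (h4 : IsFour M χ₁ χ₂ χ₃) :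
    ∃ ε₁ ε₂ ε₃ : ℤ, ((ε₁ = 1 ∨ ε₁ = -1) ∧ (ε₂ = 1 ∨ ε₂ = -1) ∧ (ε₃ = 1 ∨ ε₃ = -1)) ∧
      ((χ₁ : G → ℂ) J = ε₁ ∧ (χ₂ : G → ℂ) J = ε₂ ∧ (χ₃ : G → ℂ) J = ε₃) := by
  classical
  obtain ⟨n₁, hn₁⟩ := Cfsg.Agent.Lib.ZStar.EC.exists_int_value χ₁ hJ
  obtain ⟨n₂, hn₂⟩ := Cfsg.Agent.Lib.ZStar.EC.exists_int_value χ₂ hJ
  obtain ⟨n₃, hn₃⟩ := Cfsg.Agent.Lib.ZStar.EC.exists_int_value χ₃ hJ
  have hB := h4.hB
  have hm₁ : χ₁ ∈ principalBlock M G := by rw [hB]; exact Or.inr (Or.inl rfl)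
  have hm₂ : χ₂ ∈ principalBlock M G := by rw [hB]; exact Or.inr (Or.inr (Or.inl rfl))
  have hm₃ : χ₃ ∈ principalBlock M G := by rw [hB]; exact Or.inr (Or.inr (Or.inr rfl))
  have hn₁0 : n₁ ≠ 0 := by
    rintro rfl
    exact hC.value_ne_zero hM hJ hm₁ (by rw [hn₁]; simp)
  have hn₂0 : n₂ ≠ 0 := by
    rintro rfl
    exact hC.value_ne_zero hM hJ hm₂ (by rw [hn₂]; simp)
  have hn₃0 : n₃ ≠ 0 := by
    rintro rfl
    exact hC.value_ne_zero hM hJ hm₃ (by rw [hn₃]; simp)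
  have hs := hC.secSum_self hM hJ (M := M)
  unfold secSum at hs
  rw [h4.sum_eq (fun χ => (χ : G → ℂ) J * conj ((χ : G → ℂ) J))] at hs
  simp only [oneI_apply, map_one, mul_one] at hs
  rw [hn₁, hn₂, hn₃] at hs
  simp only [map_intCast] at hs
  have hs' : 1 + n₁ * n₁ + n₂ * n₂ + n₃ * n₃ = 4 := by exact_mod_cast hs
  have key : ∀ n : ℤ, n ≠ 0 → 1 ≤ n * n := by
    intro n hn
    have : 0 < n * n := mul_self_pos.mpr hn
    omega
  have h₁ := key n₁ hn₁0
  have h₂ := key n₂ hn₂0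
  have h₃ := key n₃ hn₃0
  have sign : ∀ n : ℤ, n * n = 1 → n = 1 ∨ n = -1 := fun n hn => Int.eq_one_or_neg_one_of_mul_eq_one' hn |>.elim (fun h => Or.inl h.1) (fun h => Or.inr h.1)
  exact ⟨n₁, n₂, n₃, ⟨sign _ (by omega), sign _ (by omega), sign _ (by omega)⟩, hn₁, hn₂, hn₃⟩

/-- A character vanishing on even-order elements is orthogonal to the section sum. -/
theorem exists_relation (hC : Ctx G) (hM : IsPModular 2 M) {J : G} (hJ : orderOf J = 2)
    {χ₁ χ₂ χ₃ : IrrCharacter G} (h4 : IsFour M χ₁ χ₂ χ₃) {ε₁ ε₂ ε₃ : ℤ}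
    (hval : (χ₁ : G → ℂ) J = ε₁ ∧ (χ₂ : G → ℂ) J = ε₂ ∧ (χ₃ : G → ℂ) J = ε₃)
    (ν : IrrCharacter G) (hν : ∀ g : G, 2 ∣ orderOf g → (ν : G → ℂ) g = 0)
    {τ : G → ℂ} (hτdef : τ = fun g => (ν : G → ℂ) g * (ν : G → ℂ) g⁻¹) :
    1 + (ε₁ : ℂ) * classInner τ (χ₁ : G → ℂ) + (ε₂ : ℂ) * classInner τ (χ₂ : G → ℂ) +
      (ε₃ : ℂ) * classInner τ (χ₃ : G → ℂ) = 0 := by
  classical
  obtain ⟨hv₁, hv₂, hv₃⟩ := hval
  -- the section sum as a function
  have hsec : ∀ g : G, secSum M J g = (oneI G : G → ℂ) g + (ε₁ : ℂ) * (χ₁ : G → ℂ) g +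
      (ε₂ : ℂ) * (χ₂ : G → ℂ) g + (ε₃ : ℂ) * (χ₃ : G → ℂ) g := by
    intro g
    unfold secSum
    rw [h4.sum_eq (fun χ => (χ : G → ℂ) g * conj ((χ : G → ℂ) J))]
    simp only [oneI_apply, map_one, mul_one, hv₁, hv₂, hv₃, map_intCast]
    ring
  have hzero : ∑ g : G, τ g * conj (secSum M J g) = 0 := by
    refine Finset.sum_eq_zero fun g _ => ?_
    by_cases h2 : 2 ∣ orderOf g
    · rw [hτdef]
      simp only
      rw [hν g h2]
      ring
    · rw [secSum_of_odd hM hJ h2]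
      simp
  have hn : (Nat.card G : ℂ) ≠ 0 := card_ne_zero_complex
  have hone : classInner τ (oneI G : G → ℂ) = 1 := by
    have h1 := classInner_self_of_isIrr ν.2
    rw [classInner_def] at h1 ⊢
    rw [← h1]
    congr 1
    refine Finset.sum_congr rfl fun g _ => ?_
    rw [hτdef]
    simp only [oneI_apply, map_one, mul_one]
    rw [char_inv_eq_conj (isCharacter_of_isIrrCharacter ν.2)]
  have hexp : ∑ g : G, τ g * conj (secSum M J g) =
      (Nat.card G : ℂ) * (classInner τ (oneI G : G → ℂ) + (ε₁ : ℂ) * classInner τ (χ₁ : G → ℂ) +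
        (ε₂ : ℂ) * classInner τ (χ₂ : G → ℂ) + (ε₃ : ℂ) * classInner τ (χ₃ : G → ℂ)) := by
    simp only [classInner_def]
    field_simp
    rw [Finset.mul_sum, Finset.mul_sum, Finset.mul_sum, ← Finset.sum_add_distrib,
      ← Finset.sum_add_distrib, ← Finset.sum_add_distrib]
    refine Finset.sum_congr rfl fun g _ => ?_
    rw [hsec g]
    simp only [map_add, map_mul, map_intCast]
    ring
  rw [hexp, hone] at hzero
  exact (mul_eq_zero.mp hzero).resolve_left hn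

end Main

section Final

variable {G : Type u} [Group G] [Finite G] [IsSimpleGroup G]

theorem part_one (hna : ∃ x y : G, x * y ≠ y * x) (p q a b : ℕ) (hp : p.Prime) (hq : q.Prime)
    (hpq : p ≠ q) (ha : a ≤ 2) (hcard : Nat.card G = 4 * p ^ a * q ^ b) :
    Nonempty (G ≃* alternatingGroup (Fin 5)) := by
  classical
  letI := Fintype.ofFinite G
  haveI := finite_irrCharacter (G := G)
  letI := Fintype.ofFinite (IrrCharacter G)
  have hns := not_isSolvable hna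
  haveI := nontrivial_of_hna hna
  have hp2 : p ≠ 2 := by
    rintro rfl
    exact hns (Cfsg.Agent.Lib.Char.Burnside.isSolvable_of_card_eq 2 q (a + 2) b Nat.prime_two hq
      (by rw [hcard]; ring))
  have hq2 : q ≠ 2 := by
    rintro rfl
    exact hns (Cfsg.Agent.Lib.Char.Burnside.isSolvable_of_card_eq 2 p (b + 2) a Nat.prime_two hp
      (by rw [hcard]; ring))
  have hg₀ : Odd (p ^ a * q ^ b) := (hp.odd_of_ne_two hp2).pow.mul (hq.odd_of_ne_two hq2).pow
  have hcard' : Nat.card G = 4 * (p ^ a * q ^ b) := by rw [hcard]; ring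
  have hnc : ¬ ∃ N : Subgroup G, N.Normal ∧ Nat.card N = p ^ a * q ^ b := by
    rintro ⟨N, hN, hNc⟩
    rcases IsSimpleGroup.eq_bot_or_eq_top_of_normal N hN with rfl | rfl
    · rw [Subgroup.card_bot] at hNc
      exact hns (Cfsg.Agent.Lib.Char.Burnside.isSolvable_of_card_eq 2 3 2 0 Nat.prime_two
        Nat.prime_three (by rw [hcard', ← hNc]; norm_num))
    · rw [Subgroup.card_top, hcard'] at hNc
      have := hg₀.pos
      omega
  have hC : Ctx G := Ctx.of_no_complement hg₀ hcard' hnc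
  have h3 := three_dvd_card hg₀ hcard' hnc
  have h8 : ¬ 2 ^ 3 ∣ Nat.card G := by
    rw [hcard']
    intro h
    obtain ⟨c, hc⟩ := h
    obtain ⟨k, hk⟩ := hg₀
    omega
  -- normal form of the order
  obtain ⟨u, r, v, hr, hr2, hr3, hn⟩ : ∃ u r v : ℕ, r.Prime ∧ r ≠ 2 ∧ r ≠ 3 ∧
      Nat.card G = 4 * 3 ^ u * r ^ v := by
    rw [hcard] at h3
    rcases (Nat.Prime.dvd_mul Nat.prime_three).mp h3 with h | h
    · rcases (Nat.Prime.dvd_mul Nat.prime_three).mp h with h | h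
      · exfalso
        norm_num at h
      · have hp3 : p = 3 := ((Nat.prime_dvd_prime_iff_eq Nat.prime_three hp).mp
          (Nat.prime_three.dvd_of_dvd_pow h)).symm
        subst hp3
        exact ⟨a, q, b, hq, hq2, hpq.symm, hcard⟩
    · have hq3 : q = 3 := ((Nat.prime_dvd_prime_iff_eq Nat.prime_three hq).mp
          (Nat.prime_three.dvd_of_dvd_pow h)).symm
      subst hq3
      exact ⟨b, p, a, hp, hp2, hpq, by rw [hcard]; ring⟩
  -- an involution
  obtain ⟨J, hJ⟩ := exists_prime_orderOf_dvd_card' (G := G) 2 (by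
    rw [hcard]; exact Dvd.dvd.mul_right (Dvd.dvd.mul_right (by norm_num) _) _)
  obtain ⟨P, hJP⟩ := exists_sylow_mem hJ
  -- the character of degree four
  obtain ⟨ν, hν1, k, hk⟩ := Cfsg.Agent.S4500.aux p 2 q a 2 b hp Nat.prime_two hq hp2 hpq ha
    (by rw [hcard]; ring)
  have hν1' : ν ≠ one' G := fun h => hν1 (by rw [h]; rfl)
  have hνd := degree_eq_four hna hC h8 hJ ν hν1' hk
  have hν0 : ∀ g : G, 2 ∣ orderOf g → (ν : G → ℂ) g = 0 := by
    intro g hg
    refine value_eq_zero_of_defect_zero ν Nat.prime_two (n := 2) ?_ h8 ?_ hg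
    · rw [hcard]; exact Dvd.dvd.mul_right (Dvd.dvd.mul_right (by norm_num) _) _
    · rw [hνd]; norm_num
  -- the principal block
  obtain ⟨M, hM⟩ := Cfsg.Agent.Lib.BlockH.Basic.exists_isPModular Nat.prime_two
  obtain ⟨χ₁, χ₂, χ₃, h4⟩ := exists_isFour hC hM hJ
  obtain ⟨ε₁, ε₂, ε₃, hε, hval⟩ := exists_signs hC hM hJ h4
  obtain ⟨hR, hF⟩ := hC.master hM hJ P hJP h4 hε hval
  obtain ⟨hne₁, hne₂, hne₃, -, -, -⟩ := h4.hdist
  have hone : ∀ χ : IrrCharacter G, (χ : G → ℂ) ≠ (fun _ => 1) → χ ≠ one' G :=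
    fun χ h e => h (by rw [e]; rfl)
  have hχ₁ := hone χ₁ hne₁
  have hχ₂ := hone χ₂ hne₂
  have hχ₃ := hone χ₃ hne₃
  -- the four relation
  have hd : ∀ χ : IrrCharacter G, (χ : G → ℂ) 1 = (charDegree (χ : G → ℂ) : ℂ) := fun χ =>
    (charDegree_natCast (isCharacter_of_isIrrCharacter χ.2)).symm
  have hfour : ∀ (χ : IrrCharacter G) (ε : ℤ), (χ : G → ℂ) J = ε →
      ∃ m : ℤ, (charDegree (χ : G → ℂ) : ℤ) + 3 * ε = 4 * m := by
    intro χ ε hχε
    obtain ⟨m, hm⟩ := exists_four_value hC χ hJ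
    rw [hd, hχε] at hm
    exact ⟨m, by exact_mod_cast hm⟩
  have hsq : ∀ χ : IrrCharacter G, χ ≠ one' G → ∀ π : ℕ, π.Prime → charDegree (χ : G → ℂ) = π →
      ¬ π ^ 2 ∣ Nat.card G := fun χ hχ π hπ h => not_sq_dvd_of_prime_degree hna χ hχ hπ h
  have hdvd : ∀ χ : IrrCharacter G, charDegree (χ : G → ℂ) ∣ Nat.card G :=
    fun χ => charDegree_dvd_card χ.2
  -- the primes dividing the product
  have hell : ∀ ℓ : ℕ, ℓ.Prime → ℓ ≠ 2 → (ℓ : ℤ) ∣ ((charDegree (χ₁ : G → ℂ) : ℤ) + ε₁) *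
      ((charDegree (χ₂ : G → ℂ) : ℤ) + ε₂) * ((charDegree (χ₃ : G → ℂ) : ℤ) + ε₃) →
      ℓ ∣ Nat.card G := by
    intro ℓ hℓ hℓ2 h
    have h1 : (ℓ : ℤ) ∣ 8 * (Nat.card (centralizer ({J} : Set G)) : ℤ) ^ 3 *
        ((charDegree (χ₁ : G → ℂ) : ℤ) * charDegree (χ₂ : G → ℂ) * charDegree (χ₃ : G → ℂ)) := by
      rw [hF]
      exact Dvd.dvd.mul_right (Dvd.dvd.mul_left h _) _
    have h2 : ℓ ∣ 8 * (Nat.card (centralizer ({J} : Set G))) ^ 3 *
        (charDegree (χ₁ : G → ℂ) * charDegree (χ₂ : G → ℂ) * charDegree (χ₃ : G → ℂ)) := by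
      exact_mod_cast h1
    rcases (Nat.Prime.dvd_mul hℓ).mp h2 with h3 | h3
    · rcases (Nat.Prime.dvd_mul hℓ).mp h3 with h4 | h4
      · exfalso
        have h5 : ℓ ∣ 2 ^ 3 := by simpa using h4
        exact hℓ2 ((Nat.prime_dvd_prime_iff_eq hℓ Nat.prime_two).mp (hℓ.dvd_of_dvd_pow h5))
      · exact (hℓ.dvd_of_dvd_pow h4).trans (Subgroup.card_subgroup_dvd_card _)
    · rcases (Nat.Prime.dvd_mul hℓ).mp h3 with h4 | h4
      · rcases (Nat.Prime.dvd_mul hℓ).mp h4 with h5 | h5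
        · exact h5.trans (hdvd χ₁)
        · exact h5.trans (hdvd χ₂)
      · exact h4.trans (hdvd χ₃)
  -- the character `ν ν̄`
  obtain ⟨hv₁, hv₂, hv₃⟩ := hval
  set τ : G → ℂ := fun g => (ν : G → ℂ) g * (ν : G → ℂ) g⁻¹ with hτ
  have hνc := isCharacter_of_isIrrCharacter ν.2
  have hτc : IsCharacter G τ := isCharacter_mul hνc (isCharacter_inv hνc)
  have hτ1 : τ 1 = ((16 : ℕ) : ℂ) := by
    simp only [hτ, inv_one]
    rw [hd ν, hνd]
    norm_num
  have hrel := exists_relation hC hM hJ h4 ⟨hv₁, hv₂, hv₃⟩ ν hν0 hτ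
  obtain ⟨m₁, hm₁⟩ := exists_nat_classInner hτc (isCharacter_of_isIrrCharacter χ₁.2)
  obtain ⟨m₂, hm₂⟩ := exists_nat_classInner hτc (isCharacter_of_isIrrCharacter χ₂.2)
  obtain ⟨m₃, hm₃⟩ := exists_nat_classInner hτc (isCharacter_of_isIrrCharacter χ₃.2)
  rw [hm₁, hm₂, hm₃] at hrel
  have hrel' : 1 + ε₁ * (m₁ : ℤ) + ε₂ * m₂ + ε₃ * m₃ = 0 := by exact_mod_cast hrel
  have hle : ∀ χ : IrrCharacter G, classInner τ (χ : G → ℂ) ≠ 0 → charDegree (χ : G → ℂ) ≤ 16 :=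
    fun χ h => deg_le_of_constituent hτc χ.2 h hτ1 (hd χ)
  -- conclude
  have hx₁ := hfour χ₁ ε₁ hv₁
  have hx₂ := hfour χ₂ ε₂ hv₂
  have hx₃ := hfour χ₃ ε₃ hv₃
  have hfinal : Nat.card G = 60 := by
    have hcase : (ε₁ = -1 ∧ m₁ ≠ 0) ∨ (ε₂ = -1 ∧ m₂ ≠ 0) ∨ (ε₃ = -1 ∧ m₃ ≠ 0) := by
      by_contra hno
      push Not at hno
      obtain ⟨h1, h2, h3⟩ := hno
      have t₁ : 0 ≤ ε₁ * (m₁ : ℤ) := by
        rcases hε.1 with e | e
        · rw [e]; positivity
        · rw [h1 e]; simp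
      have t₂ : 0 ≤ ε₂ * (m₂ : ℤ) := by
        rcases hε.2.1 with e | e
        · rw [e]; positivity
        · rw [h2 e]; simp
      have t₃ : 0 ≤ ε₃ * (m₃ : ℤ) := by
        rcases hε.2.2 with e | e
        · rw [e]; positivity
        · rw [h3 e]; simp
      omega
    rcases hcase with ⟨e, h⟩ | ⟨e, h⟩ | ⟨e, h⟩
    · refine arith_main hn hr hr2 hr3 e hε.2.1 hε.2.2 hR hx₁ hx₂ hx₃ (hdvd _) (hdvd _) (hdvd _)
        (deg_ne_one hna _ hχ₂) (deg_ne_one hna _ hχ₃) (hsq _ hχ₁) (hsq _ hχ₂) (hsq _ hχ₃) hell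
        (hle _ (by rw [hm₁]; exact_mod_cast h))
    · refine arith_main hn hr hr2 hr3 e hε.1 hε.2.2 (by linarith) hx₂ hx₁ hx₃ (hdvd _) (hdvd _)
        (hdvd _) (deg_ne_one hna _ hχ₁) (deg_ne_one hna _ hχ₃) (hsq _ hχ₂) (hsq _ hχ₁) (hsq _ hχ₃)
        (fun ℓ h1 h2 h3 => hell ℓ h1 h2 (by
          convert h3 using 1
          ring))
        (hle _ (by rw [hm₂]; exact_mod_cast h))
    · refine arith_main hn hr hr2 hr3 e hε.2.1 hε.1 (by linarith) hx₃ hx₂ hx₁ (hdvd _) (hdvd _)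
        (hdvd _) (deg_ne_one hna _ hχ₂) (deg_ne_one hna _ hχ₁) (hsq _ hχ₃) (hsq _ hχ₂) (hsq _ hχ₁)
        (fun ℓ h1 h2 h3 => hell ℓ h1 h2 (by
          convert h3 using 1
          ring))
        (hle _ (by rw [hm₃]; exact_mod_cast h))
  exact Cfsg.Agent.S0494.result hfinal

end Final

end Cfsg.Agent.Lib.SmallCof
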